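import Groth.Agent.H53.Glue.GlueableFlat
import Groth.Agent.H53.Charts
import Groth.Agent.H53.Points

/-!
# Glueability of affine étale charts of an algebraic space over `Spec R`
-/

set_option autoImplicit false
universe u
open CategoryTheory CategoryTheory.Limits AlgebraicGeometry Opposite TensorProduct

namespace Groth.Agent.H53.Glue
open AlgSp

variable (R : Type u) [CommRing R]

/-- The spectrum of an `R`-algebra, over `Spec R`. -/
noncomputable abbrev specOver (A : Type u) [CommRing A] [Algebra R A] :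
    Over (Spec (CommRingCat.of R)) :=
  Over.mk (Spec.map (CommRingCat.ofHom (algebraMap R A)))

variable {R}

/-- Ring-level data extracted from two flat maps of a scheme over `Spec R` to affine schemes, near a
given point. -/
theorem exists_ring_data {A A₂ : Type u} [CommRing A] [Algebra R A] [CommRing A₂] [Algebra R A₂]
    {W : Over (Spec (CommRingCat.of R))} (π₁ : W ⟶ specOver R A) (π₂ : W ⟶ specOver R A₂)
    (h₁ : Flat π₁.left) (h₂ : Flat π₂.left) (w : ↥W.left) :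
    ∃ (C : Type u) (_ : CommRing C) (_ : Algebra R C) (φ₁ : A →ₐ[R] C) (φ₂ : A₂ →ₐ[R] C),
      φ₁.toRingHom.Flat ∧ φ₂.toRingHom.Flat ∧
        ∃ q : PrimeSpectrum C, q.asIdeal.comap φ₁ = (π₁.left w : PrimeSpectrum A).asIdeal := by
  let 𝒰 := W.left.affineOpenCover
  obtain ⟨c, hc⟩ := 𝒰.covers w
  let ι : Spec (𝒰.X (𝒰.idx w)) ⟶ W.left := 𝒰.f (𝒰.idx w)
  have hι : IsOpenImmersion ι := inferInstance
  let ρ₁ : CommRingCat.of A ⟶ 𝒰.X (𝒰.idx w) := Spec.preimage (ι ≫ π₁.left)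
  let ρ₂ : CommRingCat.of A₂ ⟶ 𝒰.X (𝒰.idx w) := Spec.preimage (ι ≫ π₂.left)
  have e₁ : Spec.map ρ₁ = ι ≫ π₁.left := Spec.map_preimage _
  have e₂ : Spec.map ρ₂ = ι ≫ π₂.left := Spec.map_preimage _
  have f₁ : ρ₁.hom.Flat := by
    rw [← Flat.SpecMap_iff, e₁]; infer_instance
  have f₂ : ρ₂.hom.Flat := by
    rw [← Flat.SpecMap_iff, e₂]; infer_instance
  have hcomm : CommRingCat.ofHom (algebraMap R A₂) ≫ ρ₂ = CommRingCat.ofHom (algebraMap R A) ≫ ρ₁ := by
    apply Spec.map_injective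
    rw [Spec.map_comp, Spec.map_comp, e₁, e₂, Category.assoc, Category.assoc]
    have w₁ : π₁.left ≫ Spec.map (CommRingCat.ofHom (algebraMap R A)) = W.hom := Over.w π₁
    have w₂ : π₂.left ≫ Spec.map (CommRingCat.ofHom (algebraMap R A₂)) = W.hom := Over.w π₂
    rw [w₁, w₂]
  let _ : Algebra R (𝒰.X (𝒰.idx w)) := (ρ₁.hom.comp (algebraMap R A)).toAlgebra
  let φ₁ : A →ₐ[R] (𝒰.X (𝒰.idx w)) := { ρ₁.hom with commutes' := fun r => rfl }
  let φ₂ : A₂ →ₐ[R] (𝒰.X (𝒰.idx w)) :=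
    { ρ₂.hom with
      commutes' := fun r => by
        have := congrArg (fun g => g.hom r) hcomm
        exact this }
  refine ⟨𝒰.X (𝒰.idx w), inferInstance, inferInstance, φ₁, φ₂, f₁, f₂, c, ?_⟩
  have h3 : (Spec.map ρ₁) c = π₁.left w := by
    rw [e₁, Scheme.Hom.comp_apply, hc]
  rw [← h3, Spec.map_apply]
  rfl

end Groth.Agent.H53.Glue
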