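import Groth.Agent.H53.Glue.GlueableChart

/-!
# Glueability is étale local on an algebraic space over `Spec R`
-/

set_option autoImplicit false
universe u
open CategoryTheory CategoryTheory.Limits AlgebraicGeometry Opposite TensorProduct

namespace Groth.Agent.H53.Glue
open AlgSp

variable {R : Type u} [CommRing R] {R' : Type u} [CommRing R'] [Algebra R R'] {f : R}

/-- If `Y` has an étale covering by glueable affines, every affine étale over `Y` is glueable. -/
theorem isGlueable_of_cover (hRR' : EtGlue.IsGlueingPair R R' f)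
    {Y : Sp (Spec (CommRingCat.of R))} {ι : Type u} (A : ι → Type u) [∀ k, CommRing (A k)]
    [∀ k, Algebra R (A k)]
    (g : ∀ k, (yon (Spec (CommRingCat.of R))).obj (specOver R (A k)) ⟶ Y)
    (hg : ∀ k, RepWith @Etale (g k))
    (hcov : ∀ y : Points Y, ∃ k, y ∈ Set.range (Points.map (g k)))
    (hA : ∀ k, EtGlue.IsGlueable R R' f (A k))
    (A' : Type u) [CommRing A'] [Algebra R A']
    (g' : (yon (Spec (CommRingCat.of R))).obj (specOver R A') ⟶ Y) (hg' : RepWith @Etale g') :
    EtGlue.IsGlueable R R' f A' := by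
  rw [isGlueable_iff_torsInj R R' f hRR']
  apply torsInj_of_forall_prime
  intro p
  obtain ⟨k, z, hz⟩ := hcov (Points.ofPt g' (p : ↥(specOver R A').left))
  let pk : ↥(specOver R (A k)).left := Points.toScheme _ z
  have hpk : Points.ofPt (g k) pk = Points.ofPt g' (p : ↥(specOver R A').left) := by
    rw [Points.ofPt_eq_map_ofScheme, Points.ofScheme_toScheme, hz]
  obtain ⟨W, π₁, π₂, sq⟩ := Groth.Agent.H53.exists_pullback_yon g' (g k) (hg k).rep
  have hπ₁ : Etale π₁.left := Groth.Agent.H53.prop_of_isPullback_yon sq (hg k)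
  have hπ₂ : Etale π₂.left := Groth.Agent.H53.prop_of_isPullback_yon sq.flip hg'
  obtain ⟨w, hw1, -⟩ := Groth.Agent.H53.exists_pt_of_isPullback_yon sq
    (p : ↥(specOver R A').left) pk hpk.symm
  obtain ⟨C, _, _, φ₁, φ₂, hf₁, hf₂, q, hq⟩ := exists_ring_data π₁ π₂ inferInstance inferInstance w
  refine ⟨C, inferInstance, inferInstance, φ₁, hf₁, ?_, q, ?_⟩
  · exact torsInj_of_flat φ₂ hf₂ ((isGlueable_iff_torsInj R R' f hRR' (A k)).1 (hA k))
  · rw [hq, hw1]

end Groth.Agent.H53.Glue
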