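import Groth.Agent.S2005

/-!
# Glueable algebras: ascent along flat maps and descent along jointly surjective flat families
-/

set_option autoImplicit false
universe u
open TensorProduct

namespace Groth.Agent.H53.Glue

variable (R R' : Type u) [CommRing R] [CommRing R'] [Algebra R R'] (f : R)

/-- The torsion criterion for glueability. -/
def TorsInj (M : Type u) [AddCommGroup M] [Module R M] : Prop :=
  ∀ m : M, (∃ n : ℕ, f ^ n • m = 0) → (1 : R') ⊗ₜ[R] m = 0 → m = 0

theorem isGlueable_iff_torsInj (h : EtGlue.IsGlueingPair R R' f) (M : Type u) [AddCommGroup M]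
    [Module R M] : EtGlue.IsGlueable R R' f M ↔ TorsInj R R' f M :=
  (Groth.Agent.S2005.result R R' f h.1 M).2 h

variable {R R' f}

/-- Ascent of the torsion criterion along a flat algebra map. -/
theorem torsInj_of_flat {A C : Type u} [CommRing A] [Algebra R A] [CommRing C] [Algebra R C]
    (φ : A →ₐ[R] C) (hφ : φ.toRingHom.Flat) (hA : TorsInj R R' f A) : TorsInj R R' f C := by
  intro c ⟨n, hn⟩ hc
  let _ : Algebra A C := φ.toRingHom.toAlgebra
  have hT : IsScalarTower R A C := IsScalarTower.of_algebraMap_eq (fun r => (φ.commutes r).symm)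
  have hfl : Module.Flat A C := hφ
  let ι : A →ₗ[A] A ⊗[R] R' :=
    (Algebra.TensorProduct.includeLeft (R := R) (S := A) (A := A) (B := R')).toLinearMap
  let α : A →ₗ[A] A × (A ⊗[R] R') :=
    LinearMap.prod (LinearMap.lsmul A A (algebraMap R A (f ^ n))) ι
  have hα : Function.Injective α := by
    rw [injective_iff_map_eq_zero]
    intro a ha
    have h1 : algebraMap R A (f ^ n) * a = 0 := congrArg Prod.fst ha
    have h2 : a ⊗ₜ[R] (1 : R') = 0 := congrArg Prod.snd ha
    refine hA a ⟨n, ?_⟩ ?_
    · rw [Algebra.smul_def]; exact h1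
    · have := congrArg (TensorProduct.comm R A R') h2
      simpa using this
  have hinj : Function.Injective (LinearMap.lTensor C α) :=
    Module.Flat.lTensor_preserves_injective_linearMap α hα
  have hx : LinearMap.lTensor C α (c ⊗ₜ[A] (1 : A)) = 0 := by
    rw [LinearMap.lTensor_tmul]
    apply (TensorProduct.prodRight A A C A (A ⊗[R] R')).injective
    rw [TensorProduct.prodRight_tmul, map_zero]
    refine Prod.ext ?_ ?_
    · change c ⊗ₜ[A] (algebraMap R A (f ^ n) * 1) = 0
      rw [mul_one, ← mul_one (algebraMap R A (f ^ n)), ← smul_eq_mul, ← TensorProduct.smul_tmul,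
        algebraMap_smul, hn, TensorProduct.zero_tmul]
    · change c ⊗ₜ[A] ((1 : A) ⊗ₜ[R] (1 : R')) = 0
      have h3 : c ⊗ₜ[R] (1 : R') = 0 := by
        have := congrArg (TensorProduct.comm R R' C) hc
        simpa using this
      have h4 := congrArg (TensorProduct.AlgebraTensorModule.cancelBaseChange R A A C R').symm h3
      rw [TensorProduct.AlgebraTensorModule.cancelBaseChange_symm_tmul, map_zero] at h4
      exact h4
  have h5 : c ⊗ₜ[A] (1 : A) = 0 := hinj (by rw [hx, map_zero])
  have h6 := congrArg (TensorProduct.rid A C) h5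
  simpa using h6

/-- Descent of the torsion criterion along a family of flat algebra maps which is jointly surjective
on spectra. -/
theorem torsInj_of_forall_prime {A : Type u} [CommRing A] [Algebra R A]
    (h : ∀ p : PrimeSpectrum A, ∃ (C : Type u) (_ : CommRing C) (_ : Algebra R C) (φ : A →ₐ[R] C),
      φ.toRingHom.Flat ∧ TorsInj R R' f C ∧ ∃ q : PrimeSpectrum C, q.asIdeal.comap φ = p.asIdeal) :
    TorsInj R R' f A := by
  intro a ⟨n, hn⟩ ha
  by_contra hne
  have hI : Submodule.annihilator (Submodule.span A {a}) ≠ ⊤ := by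
    intro htop
    apply hne
    have h1 : (1 : A) ∈ Submodule.annihilator (Submodule.span A {a}) := by rw [htop]; trivial
    have := (Submodule.mem_annihilator_span_singleton a 1).1 h1
    simpa using this
  obtain ⟨m, hm, hIm⟩ := Ideal.exists_le_maximal _ hI
  obtain ⟨C, _, _, φ, hφ, hC, q, hq⟩ := h ⟨m, hm.isPrime⟩
  have hφa : φ a = 0 := by
    refine hC (φ a) ⟨n, ?_⟩ ?_
    · rw [← map_smul, hn, map_zero]
    · have := congrArg (TensorProduct.map (LinearMap.id : R' →ₗ[R] R') φ.toLinearMap) ha
      simpa using this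
  let _ : Algebra A C := φ.toRingHom.toAlgebra
  have hfl : Module.Flat A C := hφ
  obtain ⟨k, b, y, h1, h2⟩ := Module.Flat.isTrivialRelation_of_sum_smul_eq_zero (R := A) (M := C)
    (ι := Unit) (f := fun _ => a) (x := fun _ => (1 : C)) (by
      simp only [Finset.univ_unique, Finset.sum_singleton]
      rw [Algebra.smul_def, mul_one]
      exact hφa)
  have hb : ∀ j, b () j ∈ m := by
    intro j
    apply hIm
    rw [Submodule.mem_annihilator_span_singleton]
    have := h2 j
    simp only [Finset.univ_unique, Finset.sum_singleton] at this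
    rw [smul_eq_mul, mul_comm]
    exact this
  have h3 : (1 : C) ∈ q.asIdeal := by
    have h1' : (1 : C) = ∑ j, b () j • y j := h1 ()
    rw [h1']
    refine Ideal.sum_mem _ fun j _ => ?_
    rw [Algebra.smul_def]
    refine Ideal.mul_mem_right _ _ ?_
    have : b () j ∈ q.asIdeal.comap φ := by rw [hq]; exact hb j
    exact this
  exact q.isPrime.ne_top ((Ideal.eq_top_iff_one _).2 h3)

end Groth.Agent.H53.Glue
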